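import Groth.Agent.EtGenFibLib.GenPoint
import Groth.Agent.LocAcycPointLib.Main
import Groth.Agent.LocAcycPointLib.ZeroDim
import Groth.Agent.LocAcycStalkLib.Unit
import Groth.Agent.ConstHLib.Strict
import Groth.Agent.EtBcBridgeLib.Criterion
import Groth.Agent.S3471

/-!
# Locally constant sheaves and the generic fibre of a locally acyclic morphism
-/

set_option autoImplicit false
set_option linter.all false
set_option backward.isDefEq.respectTransparency false
set_option backward.isDefEq.respectTransparency.types false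
set_option synthInstance.maxHeartbeats 400000
set_option maxHeartbeats 2000000

universe u

open CategoryTheory CategoryTheory.Limits CategoryTheory.Abelian AlgebraicGeometry Opposite
open Groth.Agent.EtShLib EtRpushStalkLib DescSecLib LocAcycStalkLib ConstHLib

noncomputable section

namespace EtGenFibLib

attribute [local instance] EtSliceLib.pullExact

/-- The comparison for a single sheaf. -/
theorem bijective_of_unit_iso {X Y : Scheme.{u}} (h : X ⟶ Y) (n : ℕ) (F : EtCoh.Ab Y)
    (hu : IsIso ((EtCoh.pullPushAdj h).unit.app F))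
    (hR : ∀ q : ℕ, 1 ≤ q → q ≤ n → IsZero ((EtCoh.Rpush h q).obj ((EtCoh.pull h).obj F)))
    [PreservesFiniteLimits (EtCoh.pull h)] :
    (∀ q : ℕ, q ≤ n → Function.Bijective (EtCore.Hpull h F q)) ∧ Function.Injective (EtCore.Hpull h F (n + 1)) := by
  haveI : PreservesLimitsOfSize.{0, 0} (EtCoh.push h) := (EtCoh.pullPushAdj h).rightAdjoint_preservesLimits
  haveI : PreservesFiniteLimits (EtCoh.push h) := PreservesLimitsOfSize.preservesFiniteLimits _
  haveI : PreservesFiniteColimits (EtCoh.pull h) :=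
    haveI : PreservesColimitsOfSize.{0, 0} (EtCoh.pull h) := (EtCoh.pullPushAdj h).leftAdjoint_preservesColimits
    PreservesColimitsOfSize.preservesFiniteColimits _
  haveI : (EtCoh.push h).Additive := { }
  haveI := hu
  obtain ⟨hb, hi⟩ := EtAcycLib.extAdj'_range (EtCoh.pullPushAdj h) (EtCoh.const Y ℤ) n ((EtCoh.pull h).obj F)
    fun q hq => hR (q + 1) (by omega) hq
  have e : ∀ q, (EtCore.Hpull h F q : _ → _) =
      (fun x => (Ext.mk₀ (EtCore.pullConst h ℤ).symm.hom).comp x (zero_add q)) ∘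
        Groth.Agent.S14451.extAdj' (EtCoh.pullPushAdj h) (EtCoh.const Y ℤ) ((EtCoh.pull h).obj F) q ∘
          fun x : EtCoh.H Y F q => Ext.comp x (Ext.mk₀ (asIso ((EtCoh.pullPushAdj h).unit.app F)).hom) (add_zero q) := by
    intro q
    funext x
    exact congrArg (fun t => (Ext.mk₀ (EtCore.pullConst h ℤ).symm.hom).comp t (zero_add q))
      (EtAcycLib.mapExact_eq_extAdj' (EtCoh.pullPushAdj h) x)
  refine ⟨fun q hq => ?_, ?_⟩
  · rw [e q]
    exact (EtAcycLib.bijective_mk₀_iso_precomp _ q).comp ((hb q hq).comp (EtAcycLib.bijective_mk₀_iso_postcomp _ q))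
  · rw [e (n + 1)]
    exact (EtAcycLib.bijective_mk₀_iso_precomp _ _).1.comp (hi.comp (EtAcycLib.bijective_mk₀_iso_postcomp _ _).1)

/-- A constant sheaf of an `L`-torsion group is `L`-torsion. -/
theorem isLTorsion_cS {X : Scheme.{u}} {L : Set ℕ} (M : AddCommGrpCat.{u + 1})
    (hM : ∀ x : M, ∃ m, EtAcyc.PrimesIn L m ∧ m • x = 0) : EtAcyc.IsLTorsion L ((cS X).obj M) := by
  refine (isLTorsion_iff_torsionBy L _).2 fun Ω _ _ ξ p => ?_
  let v : Fib ξ (EtCoh.top X) := Fib.mk ξ (Category.comp_id _)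
  haveI := isCst_cstUnit (X := X) M Ω ξ v
  obtain ⟨x, rfl⟩ := (ConcreteCategory.bijective_of_isIso
    (cstUnit X M ≫ germ (A := AddCommGrpCat.{u + 1}) ξ ((cS X).obj M) (EtCoh.top X) v)).2 p
  obtain ⟨m, hm, hx⟩ := hM x
  exact ⟨m, hm, by rw [← map_nsmul, hx, map_zero]⟩

/-- Constant sections on a strictly local scheme are the only ones. -/
theorem surjective_cS_map (R : Type u) [CommRing R] [HenselianLocalRing R] [IsSepClosed (IsLocalRing.ResidueField R)]
    (M : AddCommGrpCat.{u + 1}) :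
    Function.Surjective fun f : Zu ⟶ M => (cS (Spec (CommRingCat.of R))).map f := fun α => by
  let X := Spec (CommRingCat.of R)
  haveI : IsIso (cstUnit X M) := by
    haveI := isCst_cstUnit (X := X) M (IsLocalRing.ResidueField R) (closedPt R) (topPt R)
    haveI : IsIso (germ (A := AddCommGrpCat.{u + 1}) (closedPt R) ((cS X).obj M) (EtCoh.top X) (topPt R)) := by
      rw [← isIso_iff_of_reflects_iso _ (forget AddCommGrpCat.{u + 1}), isIso_iff_bijective]
      exact bijective_germ_top R _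
    exact IsIso.of_isIso_comp_right _ (germ (A := AddCommGrpCat.{u + 1}) (closedPt R) _ _ (topPt R))
  let adj := constantSheafAdj X.smallEtaleTopology AddCommGrpCat.{u + 1} (EtCore.topIsTerminal X)
  refine ⟨adj.homEquiv Zu _ α ≫ inv (cstUnit X M), (adj.homEquiv Zu _).injective ?_⟩
  rw [Adjunction.homEquiv_unit, Adjunction.homEquiv_unit, unit_eq_cstUnit]
  show cstUnit X Zu ≫ ((cS X).map _).hom.app (op (EtCoh.top X)) = _
  rw [cstUnit_naturality, Category.assoc, IsIso.inv_hom_id, Category.comp_id]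

/-- The constant classes under pullback. -/
theorem Hpull_cS_map {X Y : Scheme.{u}} (g : Y ⟶ X) {G : EtCoh.Ab X} {M : AddCommGrpCat.{u + 1}}
    (e : G ≅ (cS X).obj M) (f : Zu ⟶ M) :
    EtCore.Hpull g G 0 (Ext.mk₀ ((cS X).map f ≫ e.inv)) =
      Ext.mk₀ ((cS Y).map f ≫ ((EtCoh.pull g).mapIso e ≪≫ (EtCore.pullConstIso g).app M).inv) := by
  show (Ext.mk₀ _).comp (Ext.mapExactFunctor (EtCoh.pull g) (Ext.mk₀ _)) (zero_add 0) = _
  rw [Ext.mapExactFunctor_mk₀, Ext.mk₀_comp_mk₀, Functor.map_comp, ← Category.assoc]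
  refine congrArg Ext.mk₀ ?_
  show ((EtCore.pullConstIso g).inv.app Zu ≫ (EtCoh.pull g).map ((cS X).map f)) ≫ _ =
    (cS Y).map f ≫ ((EtCore.pullConstIso g).inv.app M ≫ (EtCoh.pull g).map e.inv)
  rw [← Category.assoc ((cS Y).map f)]
  exact congrArg (· ≫ _) ((EtCore.pullConstIso g).inv.naturality f).symm

/-- Degree zero comparison with a scheme whose constant sections are constant. -/
theorem bijective_Hpull_zero (R : Type u) [CommRing R] [HenselianLocalRing R] [IsSepClosed (IsLocalRing.ResidueField R)]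
    {Y : Scheme.{u}} (g : Y ⟶ Spec (CommRingCat.of R))
    {G : EtCoh.Ab (Spec (CommRingCat.of R))} {M : AddCommGrpCat.{u + 1}}
    (e : G ≅ (cS _).obj M) (hY : Bij0 Y M) : Function.Bijective (EtCore.Hpull g G 0) := by
  let i : (EtCoh.pull g).obj G ≅ (cS Y).obj M := (EtCoh.pull g).mapIso e ≪≫ (EtCore.pullConstIso g).app M
  have hb : Function.Bijective fun f : Zu ⟶ M =>
      (Ext.mk₀ ((cS Y).map f ≫ i.inv) : EtCoh.H Y ((EtCoh.pull g).obj G) 0) :=
    (Ext.mk₀_bijective _ _).comp (((CategoryTheory.Iso.homToEquiv i.symm).bijective).comp hY)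
  have hX : ∀ a : EtCoh.H (Spec (CommRingCat.of R)) G 0, ∃ f, a = Ext.mk₀ ((cS _).map f ≫ e.inv) := fun a => by
    obtain ⟨α, rfl⟩ := (Ext.mk₀_bijective _ _).2 a
    obtain ⟨f, hf⟩ := surjective_cS_map R M (α ≫ e.hom)
    refine ⟨f, ?_⟩
    rw [show (cS _).map f = α ≫ e.hom from hf, Category.assoc, e.hom_inv_id, Category.comp_id]
  refine ⟨fun a c hac => ?_, fun y => ?_⟩
  · obtain ⟨f, rfl⟩ := hX a
    obtain ⟨f', rfl⟩ := hX c
    rw [Hpull_cS_map g e f, Hpull_cS_map g e f'] at hac
    rw [hb.1 hac]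
  · obtain ⟨f, rfl⟩ := hb.2 y
    exact ⟨_, Hpull_cS_map g e f⟩

/-- Over a point of the base the algebraic geometric points stay algebraic along a preimmersion. -/
theorem exists_geomPt {A B : Scheme.{u}} (j : A ⟶ B) [IsPreimmersion j] (a : A) (Ω : Type u) [Field Ω]
    [Algebra (A.residueField a) Ω] [Algebra.IsAlgebraic (A.residueField a) Ω] :
    ∃ _ : Algebra (B.residueField (j.base a)) Ω, Algebra.IsAlgebraic (B.residueField (j.base a)) Ω ∧
      EtAcyc.geomPt A a Ω ≫ j = EtAcyc.geomPt B (j.base a) Ω := by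
  have hs : Function.Surjective (j.residueFieldMap a).hom := fun z => by
    obtain ⟨r, rfl⟩ := A.residue_surjective a z
    obtain ⟨s, rfl⟩ := j.stalkMap_surjective a r
    exact ⟨(B.residue (j.base a)).hom s, congrArg (fun t : B.presheaf.stalk (j.base a) ⟶ A.residueField a => t.hom s) (Scheme.residue_residueFieldMap j a)⟩
  refine ⟨((algebraMap (A.residueField a) Ω).comp (j.residueFieldMap a).hom).toAlgebra, ?_, ?_⟩
  · refine EtAcycFibLib.isAlgebraic_comp (j.residueFieldMap a).hom ?_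
    letI := (j.residueFieldMap a).hom.toAlgebra
    exact ⟨fun z => by obtain ⟨w, rfl⟩ := hs z; exact isAlgebraic_algebraMap w⟩
  · show (Spec.map _ ≫ A.fromSpecResidueField a) ≫ j = Spec.map _ ≫ B.fromSpecResidueField _
    rw [Category.assoc, ← j.SpecMap_residueFieldMap_fromSpecResidueField a, ← Spec.map_comp_assoc]
    rfl

/-- Morphisms to the spectrum of a separably closed field whose fibre is acyclic are acyclic. -/
theorem isAcyclicN_to_point {K : Type u} [Field K] {P : Scheme.{u}} (m : P ⟶ Spec (CommRingCat.of K))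
    [QuasiCompact m] [QuasiSeparated m] {L : Set ℕ} (hL : ∃ ℓ ∈ L, ℓ.Prime) (n : ℕ)
    (hfib : EtAcyc.GeomFibresAcyclicN L n m) : EtAcyc.IsAcyclicN m L n := by
  have hz : LocAcycPointLib.ZeroDim (Spec (CommRingCat.of K)) :=
    LocAcycPointLib.zeroDim_of_weaklyEtale (𝟙 (Spec (CommRingCat.of K)))
  refine EtAcycFibLib.isAcyclicN_of_geomFibres m hL n ?_
    (fun k _ => LocAcycPointLib.isLocAcyclicN_of_zeroDim m hz hL k) hfib
  intro x RY RX _ _ _ _ _ _ _ _ _ _ _ _ _ z
  haveI : WeaklyEtale (Hens2.specOf (Spec (CommRingCat.of K)) (m.base x) RY) :=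
    Groth.Agent.S0754.result (Spec (CommRingCat.of K)) (m.base x) RY
  have hy := LocAcycPointLib.zeroDim_of_weaklyEtale (Hens2.specOf (Spec (CommRingCat.of K)) (m.base x) RY)
  refine ⟨IsLocalRing.closedPoint RX, ?_⟩
  rw [hy z (IsLocalRing.closedPoint RY) (IsLocalRing.specializes_closedPoint z)]
  exact IsLocalRing.comap_closedPoint (algebraMap RY RX)

/-- The stalks of the unit and of the higher direct images along the generic fibre. -/
theorem stalks {X Y : Scheme.{u}} [IsIntegral Y] (hY : Pi1.IsNormalScheme Y)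
    [IsSepClosed (Y.residueField (genericPoint Y))] (f : X ⟶ Y) {L : Set ℕ} {n : ℕ} (hL : ∃ ℓ ∈ L, ℓ.Prime)
    (hf : EtAcyc.IsLocAcyclicN f L n) (F : EtCoh.Ab X) (hF : EtAcyc.IsLTorsion L F)
    (hlc : EtRest.IsLocallyConstant F) {Ω : Type u} [Field Ω] [IsSepClosed Ω] (ξ : Spec (CommRingCat.of Ω) ⟶ X) :
    IsIso ((stk (A := AddCommGrpCat.{u + 1}) ξ).map
      ((EtCoh.pullPushAdj (pullback.fst f (Y.fromSpecResidueField (genericPoint Y)))).unit.app F)) ∧
    ∀ q : ℕ, 1 ≤ q → q ≤ n → IsZero ((stk (A := AddCommGrpCat.{u + 1}) ξ).obj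
      ((EtCoh.Rpush (pullback.fst f (Y.fromSpecResidueField (genericPoint Y))) q).obj
        ((EtCoh.pull (pullback.fst f (Y.fromSpecResidueField (genericPoint Y)))).obj F))) := by
  let K := Y.residueField (genericPoint Y)
  let j : Spec K ⟶ Y := Y.fromSpecResidueField (genericPoint Y)
  let h := pullback.fst f j
  haveI : QuasiSeparated j := inferInstance
  haveI : QuasiCompact j := inferInstance
  let x := ξ.base default
  obtain ⟨RS, _, _, _, _, hS⟩ := Groth.Agent.S0537.result (Y.presheaf.stalk (f.base x))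
  obtain ⟨RX, _, _, _, _, hX⟩ := Groth.Agent.S0537.result (X.presheaf.stalk x)
  obtain ⟨ψ, hl, hψ⟩ := EtBcQLib.exists_shHom f x RS RX
  haveI := hl
  letI : Algebra RS RX := ψ.toAlgebra
  haveI : IsLocalHom (algebraMap RS RX) := hl
  haveI : HenselianLocalRing RX := hX.henselian
  haveI : IsSepClosed (IsLocalRing.ResidueField RX) := hX.isSepClosure.sep_closed
  obtain ⟨jR, sqS⟩ := exists_isPullback hY (f.base x) RS
  haveI : IsPreimmersion jR := MorphismProperty.of_isPullback sqS (inferInstanceAs (IsPreimmersion j))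
  let hmS : Spec (CommRingCat.of RX) ⟶ Spec (CommRingCat.of RS) := Spec.map (CommRingCat.ofHom (algebraMap RS RX))
  let π := pullback.fst hmS jR
  let m := pullback.snd hmS jR
  let gX := Hens2.specOf X x RX
  have hw : hmS ≫ Hens2.specOf Y (f.base x) RS = gX ≫ f := EtBcQLib.specOf_comp f x RS RX ψ hψ
  have sqP : IsPullback m π j (gX ≫ f) := by
    have h1 := (IsPullback.of_hasPullback hmS jR).flip.paste_horiz sqS
    rw [Category.comp_id] at h1
    rw [← hw]
    exact h1
  let b : pullback hmS jR ⟶ pullback f j := pullback.lift (π ≫ gX) m (by rw [Category.assoc]; exact sqP.w.symm)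
  have sq : IsPullback b π h gX :=
    IsPullback.of_right (by rw [show b ≫ pullback.snd f j = m from pullback.lift_snd _ _ _]; exact sqP)
      (pullback.lift_fst _ _ _) (IsPullback.of_hasPullback f j).flip
  haveI : IsAffineHom m := MorphismProperty.pullback_snd (P := @IsAffineHom) hmS jR inferInstance
  haveI : QuasiCompact h := MorphismProperty.pullback_fst (P := @QuasiCompact) f j inferInstance
  haveI : QuasiSeparated h := MorphismProperty.pullback_fst (P := @QuasiSeparated) f j inferInstance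
  have hfib : EtAcyc.GeomFibresAcyclicN L n m := fun y Ω' _ _ _ _ => by
    obtain ⟨aΩ, halg, hpt⟩ := exists_geomPt jR y Ω'
    letI := aΩ
    haveI := halg
    have h0 := (Groth.Agent.S3471.result f L hL n).1 hf x RS RX hψ (jR.base y) Ω'
    refine LocAcycPointLib.isAcyclicSchemeN_of_iso ?_ h0
    refine eqToIso (by rw [hpt]) ≪≫
      (((IsPullback.of_hasPullback m (EtAcyc.geomPt _ y Ω')).flip.paste_vert
        (IsPullback.of_hasPullback hmS jR).flip).flip.isoPullback).symm
  have hac : EtAcyc.IsAcyclicN m L n := isAcyclicN_to_point m hL n hfib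
  obtain ⟨yK⟩ := (inferInstance : Nonempty ↥(Spec K))
  haveI : Nonempty ↥(pullback hmS jR) := by
    obtain ⟨⟨p⟩, -, -⟩ := hfib yK (AlgebraicClosure ((Spec K).residueField yK))
    exact ⟨(pullback.fst m _).base p⟩
  let G := (EtCoh.pull gX).obj F
  have hG : EtRest.IsLocallyConstant G := (isLC_iff G).2 (((isLC_iff F).1 hlc).pull (f := gX))
  obtain ⟨e⟩ := ConstHLib.exists_iso_const hG
  let M := (stk (A := AddCommGrpCat.{u + 1}) (closedPt RX)).obj G
  have hM : ∀ z : M, ∃ k, EtAcyc.PrimesIn L k ∧ k • z = 0 :=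
    (isLTorsion_iff_torsionBy L G).1 (EtAcycLib.isLTorsion_pull_any gX hF) _ (closedPt RX)
  haveI : IsSepClosed (IsLocalRing.ResidueField K) := EtStrictAcycLib.isSepClosed_residue K
  have hcomp := (EtAcycFibLib.compN_of_acyclicN hac) ((cS (Spec K)).obj M) (isLTorsion_cS M hM)
  have hB0 : Bij0 (pullback hmS jR) M := by
    refine ⟨ConstHLib.injective_map (X := pullback hmS jR) M, fun α => ?_⟩
    let i : (EtCoh.pull m).obj ((cS (Spec K)).obj M) ≅ (cS _).obj M :=
      (EtCoh.pull m).mapIso (Iso.refl _) ≪≫ (EtCore.pullConstIso m).app M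
    obtain ⟨z, hz⟩ := (hcomp.1 0 (Nat.zero_le n)).2 (Ext.mk₀ (α ≫ i.inv))
    obtain ⟨β, rfl⟩ := (Ext.mk₀_bijective _ _).2 z
    obtain ⟨φ, rfl⟩ := surjective_cS_map K M β
    refine ⟨φ, (cancel_mono i.inv).1 ((Ext.mk₀_bijective _ _).1 ?_)⟩
    refine Eq.trans ?_ hz
    refine (Hpull_cS_map m (Iso.refl ((cS (Spec K)).obj M)) φ).symm.trans ?_
    exact congrArg (EtCore.Hpull m _ 0) (congrArg Ext.mk₀ (Category.comp_id _))
  have hb := bijective_Hpull_zero RX π e hB0
  obtain ⟨C⟩ := EtRpushStalkLib.exists_chart x RX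
  obtain ⟨es⟩ := nonempty_stk_iso_of_eq (A := AddCommGrpCat.{u + 1}) (ξ := closedPt RX ≫ gX) (ξ' := ξ) (by
    show x = _
    rw [Scheme.Hom.comp_apply]
    refine ((congrArg gX.base ?_).trans (EtStrictAcycLib.specOf_closedPoint X x RX)).symm
    exact SubmDescLib.closedPoint_map (IsLocalRing.residue RX) IsLocalRing.residue_surjective _)
  refine ⟨?_, fun q hq1 hq => ?_⟩
  · haveI := isIso_unit_stk h sq C F hb
    rw [← NatIso.naturality_1 es ((EtCoh.pullPushAdj h).unit.app F)]
    infer_instance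
  · obtain ⟨e'⟩ := EtRpushStalkLib.nonempty_iso h sq C q
    let E : (EtCoh.pull b).obj ((EtCoh.pull h).obj F) ≅ (EtCoh.pull m).obj ((cS (Spec K)).obj M) :=
      asIso ((etSys.c b h (b ≫ h) rfl).app _) ≪≫ (asIso ((etSys.c π gX (b ≫ h) sq.w.symm).app _)).symm ≪≫
        ((EtCoh.pull π).mapIso e ≪≫ (EtCore.pullConstIso π).app M) ≪≫ ((EtCore.pullConstIso m).app M).symm
    obtain ⟨k, rfl⟩ : ∃ k, q = k + 1 := ⟨q - 1, by omega⟩
    haveI : Subsingleton (EtCoh.H _ ((EtCoh.pull m).obj ((cS (Spec K)).obj M)) (k + 1)) :=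
      ⟨fun a c => by
        obtain ⟨a', rfl⟩ := (hcomp.1 (k + 1) hq).2 a
        obtain ⟨c', rfl⟩ := (hcomp.1 (k + 1) hq).2 c
        rw [EtAcycFibLib.eq_zero_of_point _ k a', EtAcycFibLib.eq_zero_of_point _ k c']⟩
    refine IsZero.of_iso ?_ (es.symm.app _ ≪≫ e'.app _ ≪≫ (extFunctorObj _ (k + 1)).mapIso E)
    exact AddCommGrpCat.isZero_of_subsingleton (AddCommGrpCat.of
      (EtCoh.H _ ((EtCoh.pull m).obj ((cS (Spec K)).obj M)) (k + 1)))

end EtGenFibLib
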