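import Mathlib
import Groth.Prelude.Def_Pi1
import Groth.Prelude.Def_Hensel
import Groth.Agent.WEtFieldLib.Basic
import Groth.Agent.SweepSix.WEt
import Groth.Agent.S0736
import Groth.Agent.S12237
import Groth.Agent.S2748
import Groth.Agent.S0754

/-!
# The generic point of a normal scheme seen from a strict localisation
-/

set_option autoImplicit false
set_option linter.all false
set_option backward.isDefEq.respectTransparency false
set_option backward.isDefEq.respectTransparency.types false
set_option synthInstance.maxHeartbeats 400000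
set_option maxHeartbeats 2000000

universe u

open CategoryTheory CategoryTheory.Limits AlgebraicGeometry
open scoped TensorProduct

noncomputable section

namespace EtGenFibLib

/-- A separably closed fraction field is not enlarged by a strict henselisation of a normal local domain. -/
theorem bijective_includeLeft (O K R : Type u) [CommRing O] [IsDomain O] [IsLocalRing O] [IsIntegrallyClosed O] [Field K]
    [Algebra O K] [IsFractionRing O K] [IsSepClosed K] [CommRing R] [IsLocalRing R] [Algebra O R]
    [IsLocalHom (algebraMap O R)] [Hensel.IsStrictHenselization O R] :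
    Function.Bijective (algebraMap K (K ⊗[O] R)) := by
  haveI : IsDomain R := ((Groth.Agent.S2748.result O R).2 ⟨inferInstance, inferInstance⟩).1
  haveI : Algebra.WeaklyEtale O R := Groth.Agent.S0736.result O R (Groth.Agent.S12237.result O R)
  haveI : Module.Flat O R := Algebra.WeaklyEtale.flat
  haveI : Module.FaithfullyFlat O R := Module.FaithfullyFlat.of_flat_of_isLocalHom
  have hinj : Function.Injective (algebraMap O R) := FaithfulSMul.algebraMap_injective O R
  have hf : IsLocalizedModule (nonZeroDivisors O) (TensorProduct.mk O K R 1) := inferInstance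
  have hzero : ∀ r : R, (1 : K) ⊗ₜ[O] r = 0 → r = 0 := fun r hr => by
    obtain ⟨c, hc⟩ := (IsLocalizedModule.eq_zero_iff (nonZeroDivisors O) (TensorProduct.mk O K R 1)).1 hr
    rw [Submonoid.smul_def, Algebra.smul_def] at hc
    refine (mul_eq_zero.1 hc).resolve_left fun h => nonZeroDivisors.coe_ne_zero c (hinj ?_)
    rw [h, map_zero]
  have hfrac : ∀ z : K ⊗[O] R, ∃ (r : R) (s : O), s ≠ 0 ∧ s • z = (1 : K) ⊗ₜ[O] r := fun z => by
    obtain ⟨⟨r, s⟩, hs⟩ := IsLocalizedModule.surj (nonZeroDivisors O) (TensorProduct.mk O K R 1) z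
    exact ⟨r, s, nonZeroDivisors.coe_ne_zero s, hs⟩
  have hcancel : ∀ (z : K ⊗[O] R) (s : O), s ≠ 0 → s • z = 0 → z = 0 := fun z s hs hz => by
    have h : (algebraMap O K s)⁻¹ • (algebraMap O K s • z) = z :=
      inv_smul_smul₀ (fun h => hs (IsFractionRing.injective O K (h.trans (map_zero _).symm))) z
    rwa [algebraMap_smul, hz, smul_zero, eq_comm] at h
  haveI : Nontrivial (K ⊗[O] R) := ⟨⟨(1 : K) ⊗ₜ[O] (1 : R), 0, fun h => one_ne_zero (hzero 1 h)⟩⟩
  haveI : IsDomain (K ⊗[O] R) := by
    haveI : NoZeroDivisors (K ⊗[O] R) := ⟨fun {z w} hzw => by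
      obtain ⟨r, s, hs, hr⟩ := hfrac z
      obtain ⟨r', s', hs', hr'⟩ := hfrac w
      have h : (1 : K) ⊗ₜ[O] (r * r') = 0 := by
        rw [show (1 : K) ⊗ₜ[O] (r * r') = ((1 : K) ⊗ₜ[O] r) * ((1 : K) ⊗ₜ[O] r') by
          rw [Algebra.TensorProduct.tmul_mul_tmul, one_mul], ← hr, ← hr', smul_mul_smul_comm, hzw, smul_zero]
      rcases mul_eq_zero.1 (hzero _ h) with h0 | h0
      · exact Or.inl (hcancel z s hs (by rw [hr, h0, TensorProduct.tmul_zero]))
      · exact Or.inr (hcancel w s' hs' (by rw [hr', h0, TensorProduct.tmul_zero]))⟩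
    exact NoZeroDivisors.to_isDomain _
  haveI : Algebra.WeaklyEtale K (K ⊗[O] R) := inferInstance
  have hfield : IsField (K ⊗[O] R) :=
    { exists_pair_ne := ⟨0, 1, zero_ne_one⟩
      mul_comm := mul_comm
      mul_inv_cancel := fun {a} ha => by
        obtain ⟨x, hx⟩ := Groth.Agent.WEtFieldLib.forall_dvd (K := K) (B := K ⊗[O] R) a
        exact ⟨x, mul_left_cancel₀ ha (by rw [← mul_assoc, ← hx, mul_one])⟩ }
  letI := hfield.toField
  haveI := SweepSix.isSeparable_of_weaklyEtale (K := K) (L := K ⊗[O] R)
  exact IsSepClosed.algebraMap_bijective K (K ⊗[O] R)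

/-- The generic point in a strict localisation of a normal integral scheme. -/
theorem exists_isPullback {Y : Scheme.{u}} [IsIntegral Y] (hY : Pi1.IsNormalScheme Y)
    [IsSepClosed (Y.residueField (genericPoint Y))] (y : Y) (R : Type u) [CommRing R] [IsLocalRing R]
    [Algebra (Y.presheaf.stalk y) R] [IsLocalHom (algebraMap (Y.presheaf.stalk y) R)]
    [Hensel.IsStrictHenselization (Y.presheaf.stalk y) R] :
    ∃ jR : Spec (CommRingCat.of (Y.residueField (genericPoint Y))) ⟶ Spec (CommRingCat.of R),
      IsPullback (𝟙 _) jR (Y.fromSpecResidueField (genericPoint Y))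
        (Spec.map (CommRingCat.ofHom (algebraMap (Y.presheaf.stalk y) R)) ≫ Y.fromSpecStalk y) := by
  let η := genericPoint Y
  let O := Y.presheaf.stalk y
  let K := Y.residueField η
  haveI : IsDomain O := (hY y).1
  haveI : IsIntegrallyClosed O := (hY y).2
  have hsp : η ⤳ y := (genericPoint_spec Y).specializes trivial
  let a : O ⟶ K := Y.presheaf.stalkSpecializes hsp ≫ Y.residue η
  letI : Algebra O K := a.hom.toAlgebra
  have hres : Function.Bijective (Y.residue η).hom :=
    ⟨(Y.residue η).hom.injective, Y.residue_surjective η⟩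
  haveI : IsFractionRing O K :=
    IsFractionRing.of_algEquiv (K := Y.functionField)
      (AlgEquiv.ofRingEquiv (R := O) (f := RingEquiv.ofBijective (Y.residue η).hom hres) fun x => rfl)
  have hb := bijective_includeLeft O K R
  let e : (K : Type u) ≃+* (K : Type u) ⊗[(O : Type u)] R := RingEquiv.ofBijective _ hb
  let q : CommRingCat.of R ⟶ K :=
    CommRingCat.ofHom (e.symm.toRingHom.comp Algebra.TensorProduct.includeRight.toRingHom)
  have sq0 := isPullback_SpecMap_of_isPushout _ _ _ _ (CommRingCat.isPushout_tensorProduct O K R)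
  let ie : CommRingCat.of K ≅ CommRingCat.of ((K : Type u) ⊗[(O : Type u)] R) := e.toCommRingCatIso
  let E : Spec (CommRingCat.of ((K : Type u) ⊗[(O : Type u)] R)) ≅ Spec K := Scheme.Spec.mapIso ie.op
  have sq1 : IsPullback (𝟙 (Spec K)) (Spec.map q) (Spec.map a) (Spec.map (CommRingCat.ofHom (algebraMap O R))) := by
    refine IsPullback.of_iso sq0 E (Iso.refl _) (Iso.refl _) (Iso.refl _) ?_ ?_ ?_ ?_
    · exact (Category.comp_id _).trans (Category.comp_id _).symm
    · show Spec.map _ ≫ 𝟙 _ = Spec.map ie.hom ≫ Spec.map q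
      rw [Category.comp_id, ← Spec.map_comp]
      refine congrArg Spec.map ?_
      ext r
      exact (e.apply_symm_apply _).symm
    · exact (Category.comp_id _).trans (Category.id_comp _).symm
    · exact (Category.comp_id _).trans (Category.id_comp _).symm
  refine ⟨Spec.map q, ?_⟩
  have hj : Y.fromSpecResidueField η = Spec.map a ≫ Y.fromSpecStalk y := by
    show Spec.map (Y.residue η) ≫ Y.fromSpecStalk η = _
    rw [Spec.map_comp, Category.assoc, Scheme.SpecMap_stalkSpecializes_fromSpecStalk]
  rw [hj]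
  have w : 𝟙 (Spec K) ≫ Spec.map a ≫ Y.fromSpecStalk y =
      Spec.map q ≫ Spec.map (CommRingCat.ofHom (algebraMap O R)) ≫ Y.fromSpecStalk y := by
    rw [← Category.assoc, sq1.w, Category.assoc]
  refine ⟨⟨w⟩, ⟨PullbackCone.IsLimit.mk _
    (fun s => sq1.lift s.fst s.snd ((cancel_mono (Y.fromSpecStalk y)).1 (by simpa using s.condition)))
    (fun s => sq1.lift_fst _ _ _) (fun s => sq1.lift_snd _ _ _)
    (fun s m h1 h2 => sq1.hom_ext (h1.trans (sq1.lift_fst _ _ _).symm) (h2.trans (sq1.lift_snd _ _ _).symm))⟩⟩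

end EtGenFibLib
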